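import Groth.Agent.Lib.FlatSyz.TorDim
import Mathlib.Algebra.Homology.ShortComplex.ModuleCat
import Mathlib.RingTheory.IntegralClosure.IntegrallyClosed
import Mathlib.RingTheory.FiniteLength
import Mathlib.RingTheory.Noetherian.Defs

/-!
# `Tor₁` as a kernel, for any projective presentation
-/

universe u

open CategoryTheory CategoryTheory.Limits MonoidalCategory TensorProduct

namespace Groth.Agent.TorOne17

variable {B : Type u} [CommRing B]

section Indep

variable (M : Type u) [AddCommGroup M] [Module B M] {N : Type u} [AddCommGroup N] [Module B N]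
  {P Q : Type u} [AddCommGroup P] [Module B P] [AddCommGroup Q] [Module B Q]

/-- The kernel of `M ⊗ ker p → M ⊗ P` is independent of the projective presentation. -/
theorem nonempty_ker_equiv [Module.Projective B P] [Module.Projective B Q]
    (p : P →ₗ[B] N) (hp : Function.Surjective p) (q : Q →ₗ[B] N) (hq : Function.Surjective q) :
    Nonempty (LinearMap.ker ((LinearMap.ker p).subtype.lTensor M) ≃ₗ[B]
      LinearMap.ker ((LinearMap.ker q).subtype.lTensor M)) := by
  obtain ⟨a, ha⟩ := Module.projective_lifting_property q p hq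
  obtain ⟨b, hb⟩ := Module.projective_lifting_property p q hp
  have ha' : ∀ x ∈ LinearMap.ker p, a x ∈ LinearMap.ker q := fun x hx => by
    rw [LinearMap.mem_ker, ← LinearMap.comp_apply, ha]; exact hx
  have hb' : ∀ x ∈ LinearMap.ker q, b x ∈ LinearMap.ker p := fun x hx => by
    rw [LinearMap.mem_ker, ← LinearMap.comp_apply, hb]; exact hx
  let aK := a.restrict ha'
  let bK := b.restrict hb'
  have haK : ∀ z ∈ LinearMap.ker ((LinearMap.ker p).subtype.lTensor M),
      aK.lTensor M z ∈ LinearMap.ker ((LinearMap.ker q).subtype.lTensor M) := fun z hz => by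
    rw [LinearMap.mem_ker, ← LinearMap.comp_apply, ← LinearMap.lTensor_comp,
      show (LinearMap.ker q).subtype.comp aK = a.comp (LinearMap.ker p).subtype from LinearMap.ext fun _ => rfl,
      LinearMap.lTensor_comp, LinearMap.comp_apply, LinearMap.mem_ker.1 hz, map_zero]
  have hbK : ∀ z ∈ LinearMap.ker ((LinearMap.ker q).subtype.lTensor M),
      bK.lTensor M z ∈ LinearMap.ker ((LinearMap.ker p).subtype.lTensor M) := fun z hz => by
    rw [LinearMap.mem_ker, ← LinearMap.comp_apply, ← LinearMap.lTensor_comp,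
      show (LinearMap.ker p).subtype.comp bK = b.comp (LinearMap.ker q).subtype from LinearMap.ext fun _ => rfl,
      LinearMap.lTensor_comp, LinearMap.comp_apply, LinearMap.mem_ker.1 hz, map_zero]
  have key : ∀ {P' Q' : Type u} [AddCommGroup P'] [Module B P'] [AddCommGroup Q'] [Module B Q']
      (p' : P' →ₗ[B] N) (q' : Q' →ₗ[B] N) (f : P' →ₗ[B] Q') (g : Q' →ₗ[B] P') (hf : q'.comp f = p')
      (hg : p'.comp g = q') (fK : LinearMap.ker p' →ₗ[B] LinearMap.ker q')
      (gK : LinearMap.ker q' →ₗ[B] LinearMap.ker p'),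
      (∀ x, (fK x : Q') = f x) → (∀ x, (gK x : P') = g x) →
      ∀ z, (LinearMap.ker p').subtype.lTensor M z = 0 → gK.lTensor M (fK.lTensor M z) = z := by
    intro P' Q' _ _ _ _ p' q' f g hf hg fK gK hfK hgK z hz
    have hd : ∀ x : P', x - g (f x) ∈ LinearMap.ker p' := fun x => by
      rw [LinearMap.mem_ker, map_sub, ← LinearMap.comp_apply p' g, hg, ← LinearMap.comp_apply q' f, hf, sub_self]
    let d : P' →ₗ[B] LinearMap.ker p' := (LinearMap.id - g.comp f).codRestrict _ hd
    have hid : LinearMap.id = d.comp (LinearMap.ker p').subtype + gK.comp fK :=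
      LinearMap.ext fun x => Subtype.ext (by simp [d, hfK, hgK])
    have h := LinearMap.congr_fun (congrArg (LinearMap.lTensor M) hid) z
    rw [LinearMap.lTensor_id, LinearMap.id_apply, LinearMap.lTensor_add, LinearMap.add_apply,
      LinearMap.lTensor_comp, LinearMap.comp_apply, hz, map_zero, zero_add, LinearMap.lTensor_comp,
      LinearMap.comp_apply] at h
    exact h.symm
  refine ⟨LinearEquiv.ofLinear ((aK.lTensor M).restrict haK) ((bK.lTensor M).restrict hbK) ?_ ?_⟩
  · refine LinearMap.ext fun z => Subtype.ext ?_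
    exact key q p b a hb ha bK aK (fun _ => rfl) (fun _ => rfl) z.1 z.2
  · refine LinearMap.ext fun z => Subtype.ext ?_
    exact key p q a b ha hb aK bK (fun _ => rfl) (fun _ => rfl) z.1 z.2

end Indep

/-- `Tor₁(M, N)` is the kernel of `M ⊗ ker p → M ⊗ P` for any projective presentation `p : P → N`. -/
theorem nonempty_tor_one_equiv (M : Type u) [AddCommGroup M] [Module B M] {N P : Type u} [AddCommGroup N]
    [Module B N] [AddCommGroup P] [Module B P] [Module.Projective B P] (p : P →ₗ[B] N) (hp : Function.Surjective p) :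
    Nonempty ((((Tor (ModuleCat.{u} B) 1).obj (ModuleCat.of B M)).obj (ModuleCat.of B N) : Type u) ≃ₗ[B]
      LinearMap.ker ((LinearMap.ker p).subtype.lTensor M)) := by
  let Pr := ProjectiveResolution.of (ModuleCat.of B N)
  haveI hproj0 : Module.Projective B (Pr.complex.X 0) :=
    IsProjective.iff_projective (Pr.complex.X 0) |>.2 (Pr.projective 0)
  let q : Pr.complex.X 0 →ₗ[B] N := (Pr.π.f 0).hom
  have hq : Function.Surjective q := (ModuleCat.epi_iff_surjective (Pr.π.f 0)).1 inferInstance
  obtain ⟨eK⟩ := nonempty_ker_equiv M p hp q hq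
  let d₁ := FlatSyz.dLin Pr 0
  let d₂ := FlatSyz.dLin Pr 1
  have hd : ∀ x, d₁ x ∈ LinearMap.ker q := fun x => by
    rw [LinearMap.mem_ker]
    exact LinearMap.congr_fun (congrArg ModuleCat.Hom.hom Pr.complex_d_comp_π_f_zero) x
  let e : Pr.complex.X 1 →ₗ[B] LinearMap.ker q := d₁.codRestrict _ hd
  have he : Function.Surjective e := fun x => by
    obtain ⟨y, hy⟩ := (ShortComplex.moduleCat_exact_iff _).1 Pr.exact₀ x.1 x.2
    exact ⟨y, Subtype.ext hy⟩
  have hex : Function.Exact d₂ e := fun x =>
    ⟨fun hx => (FlatSyz.dLin_exact Pr 0 x).1 (congrArg Subtype.val hx),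
      fun hx => Subtype.ext ((FlatSyz.dLin_exact Pr 0 x).2 hx)⟩
  let S : ShortComplex (ModuleCat.{u} B) :=
    (((tensoringLeft (ModuleCat.{u} B)).obj (ModuleCat.of B M)).mapHomologicalComplex _ |>.obj Pr.complex).sc' 2 1 0
  let i₁ : (((Tor (ModuleCat.{u} B) 1).obj (ModuleCat.of B M)).obj (ModuleCat.of B N)) ≅ S.moduleCatLeftHomologyData.H :=
    Pr.isoLeftDerivedObj ((tensoringLeft (ModuleCat.{u} B)).obj (ModuleCat.of B M)) 1 ≪≫
      (HomologicalComplex.homologyIsoSc' _ 2 1 0 (by simp) (by simp)) ≪≫ S.moduleCatHomologyIso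
  suffices h : Nonempty ((S.moduleCatLeftHomologyData.H : Type u) ≃ₗ[B]
      LinearMap.ker ((LinearMap.ker q).subtype.lTensor M)) from
    h.map fun h => i₁.toLinearEquiv.trans (h.trans eK.symm)
  -- the cycles map onto the kernel, with kernel the boundaries
  have hrest : ∀ z ∈ LinearMap.ker S.g.hom, e.lTensor M z ∈ LinearMap.ker ((LinearMap.ker q).subtype.lTensor M) :=
    fun z hz => by
      rw [LinearMap.mem_ker, ← LinearMap.comp_apply, ← LinearMap.lTensor_comp]
      exact hz
  let f : LinearMap.ker S.g.hom →ₗ[B] LinearMap.ker ((LinearMap.ker q).subtype.lTensor M) :=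
    (e.lTensor M).restrict hrest
  have hf : Function.Surjective f := fun y => by
    obtain ⟨z, hz⟩ := LinearMap.lTensor_surjective M he y.1
    refine ⟨⟨z, ?_⟩, Subtype.ext hz⟩
    show d₁.lTensor M z = 0
    rw [show d₁ = (LinearMap.ker q).subtype.comp e from rfl, LinearMap.lTensor_comp, LinearMap.comp_apply, hz]
    exact y.2
  have hker : LinearMap.range S.moduleCatToCycles = LinearMap.ker f := by
    ext z
    constructor
    · rintro ⟨w, rfl⟩
      exact Subtype.ext ((lTensor_exact M hex he _).2 ⟨w, rfl⟩)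
    · intro hz
      obtain ⟨w, hw⟩ := (lTensor_exact M hex he z.1).1 (congrArg Subtype.val hz)
      exact ⟨w, Subtype.ext hw⟩
  exact ⟨(Submodule.quotEquivOfEq _ _ hker).trans (f.quotKerEquivOfSurjective hf)⟩

/-- `Tor₁` does not change when the cokernel of a map that stays injective after tensoring is killed. -/
theorem nonempty_tor_one_equiv_quotient (W : Type u) [AddCommGroup W] [Module B W] {M F : Type u}
    [AddCommGroup M] [Module B M] [AddCommGroup F] [Module B F] [Module.Projective B F] (f : F →ₗ[B] M)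
    (hf : Function.Injective f) (hinj : Function.Injective (f.lTensor W)) :
    Nonempty ((((Tor (ModuleCat.{u} B) 1).obj (ModuleCat.of B W)).obj (ModuleCat.of B M) : Type u) ≃ₗ[B]
      (((Tor (ModuleCat.{u} B) 1).obj (ModuleCat.of B W)).obj (ModuleCat.of B (M ⧸ LinearMap.range f)) : Type u)) := by
  let p : (M →₀ B) →ₗ[B] M := Finsupp.linearCombination B id
  have hp : Function.Surjective p := Finsupp.linearCombination_id_surjective B M
  let q := (LinearMap.range f).mkQ.comp p
  have hq : Function.Surjective q := (Submodule.mkQ_surjective _).comp hp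
  obtain ⟨e₁⟩ := nonempty_tor_one_equiv W p hp
  obtain ⟨e₂⟩ := nonempty_tor_one_equiv W q hq
  let K := LinearMap.ker p
  let K' := LinearMap.ker q
  have hKK : K ≤ K' := fun x hx => by
    show (LinearMap.range f).mkQ (p x) = 0
    rw [LinearMap.mem_ker.1 hx, map_zero]
  let i := Submodule.inclusion hKK
  let ef := LinearEquiv.ofInjective f hf
  let pK : K' →ₗ[B] LinearMap.range f :=
    (p.comp K'.subtype).codRestrict _ fun x => (Submodule.Quotient.mk_eq_zero _).1 x.2
  let φ : K' →ₗ[B] F := ef.symm.toLinearMap.comp pK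
  have hφ : ∀ x, f (φ x) = p x := fun x => congrArg Subtype.val (ef.apply_symm_apply (pK x))
  have hφs : Function.Surjective φ := fun y => by
    obtain ⟨x, hx⟩ := hp (f y)
    exact ⟨⟨x, (Submodule.Quotient.mk_eq_zero _).2 ⟨y, hx.symm⟩⟩, hf ((hφ _).trans hx)⟩
  obtain ⟨s, hs⟩ := Module.projective_lifting_property φ LinearMap.id hφs
  let r₀ : K' →ₗ[B] (M →₀ B) := K'.subtype - K'.subtype.comp (s.comp φ)
  have hr₀ : ∀ x : K', r₀ x = (x : M →₀ B) - (s (φ x) : M →₀ B) := fun x => rfl
  have hr : ∀ x : K', r₀ x ∈ K := fun x => by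
    rw [LinearMap.mem_ker, hr₀, map_sub, ← hφ, ← hφ, show φ (s (φ x)) = φ x from LinearMap.congr_fun hs (φ x), sub_self]
  let r : K' →ₗ[B] K := r₀.codRestrict K hr
  have hri : r.comp i = LinearMap.id := LinearMap.ext fun x => Subtype.ext (by
    have h0 : φ (i x) = 0 := hf (by rw [hφ, map_zero]; exact x.2)
    show ((i x : K') : M →₀ B) - (s (φ (i x)) : M →₀ B) = x
    rw [h0, map_zero]
    simp [i])
  have hir : i.comp r + s.comp φ = LinearMap.id := LinearMap.ext fun x => Subtype.ext (by
    show ((x : M →₀ B) - (s (φ x) : M →₀ B)) + (s (φ x) : M →₀ B) = x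
    abel)
  have hmem : ∀ z ∈ LinearMap.ker (K.subtype.lTensor W), i.lTensor W z ∈ LinearMap.ker (K'.subtype.lTensor W) :=
    fun z hz => by
      rw [LinearMap.mem_ker, ← LinearMap.comp_apply, ← LinearMap.lTensor_comp]
      exact hz
  refine ⟨(e₁.trans (LinearEquiv.ofBijective ((i.lTensor W).restrict hmem) ⟨?_, ?_⟩)).trans e₂.symm⟩
  · intro a b hab
    have h := congrArg (r.lTensor W) (congrArg Subtype.val hab)
    refine Subtype.ext ?_
    simpa [← LinearMap.comp_apply, ← LinearMap.lTensor_comp, hri] using h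
  · intro z
    have hφ0 : φ.lTensor W z.1 = 0 := hinj (by
      rw [map_zero, ← LinearMap.comp_apply, ← LinearMap.lTensor_comp,
        show f.comp φ = p.comp K'.subtype from LinearMap.ext hφ, LinearMap.lTensor_comp, LinearMap.comp_apply,
        LinearMap.mem_ker.1 z.2, map_zero])
    have h := LinearMap.congr_fun (congrArg (LinearMap.lTensor W) hir) z.1
    rw [LinearMap.lTensor_add, LinearMap.add_apply, LinearMap.lTensor_comp, LinearMap.lTensor_comp,
      LinearMap.comp_apply, LinearMap.comp_apply, hφ0, map_zero, add_zero, LinearMap.lTensor_id, LinearMap.id_apply] at h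
    refine ⟨⟨r.lTensor W z.1, ?_⟩, Subtype.ext h⟩
    rw [LinearMap.mem_ker, show K.subtype = K'.subtype.comp i from rfl, LinearMap.lTensor_comp,
      LinearMap.comp_apply, h]
    exact z.2

section Domain

variable (O : Type u) [CommRing O] [IsDomain O] [IsNoetherianRing O] [IsLocalRing O]

/-- A module of finite length over a local domain which is not a field is killed by a nonzero element. -/
theorem exists_smul_eq_zero_of_isFiniteLength (hf : ¬ IsField O) {T : Type u} [AddCommGroup T] [Module O T]
    (hT : IsFiniteLength O T) : ∃ a : O, a ≠ 0 ∧ ∀ x : T, a • x = 0 := by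
  obtain ⟨hN, hA⟩ := isFiniteLength_iff_isNoetherian_isArtinian.1 hT
  obtain ⟨n, hn⟩ := IsArtinian.monotone_stabilizes (R := O) (M := T)
    ⟨fun n => OrderDual.toDual ((IsLocalRing.maximalIdeal O) ^ n • ⊤ : Submodule O T),
      fun a b hab => Submodule.smul_mono_left (Ideal.pow_le_pow_right hab)⟩
  have heq : (IsLocalRing.maximalIdeal O) ^ n • (⊤ : Submodule O T) =
      (IsLocalRing.maximalIdeal O) ^ (n + 1) • ⊤ := hn (n + 1) (Nat.le_succ n)
  have hbot : (IsLocalRing.maximalIdeal O) ^ n • (⊤ : Submodule O T) = ⊥ := by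
    refine Submodule.eq_bot_of_le_smul_of_le_jacobson_bot (IsLocalRing.maximalIdeal O) _
      (IsNoetherian.noetherian _) ?_ (IsLocalRing.maximalIdeal_le_jacobson _)
    rw [← Submodule.mul_smul, ← pow_succ']
    exact heq.le
  have hne : (IsLocalRing.maximalIdeal O) ^ n ≠ ⊥ :=
    pow_ne_zero n fun h => hf (IsLocalRing.isField_iff_maximalIdeal_eq.2 h)
  obtain ⟨a, ha, ha0⟩ := Submodule.exists_mem_ne_zero_of_ne_bot hne
  exact ⟨a, ha0, fun x => (Submodule.eq_bot_iff _).1 hbot _ (Submodule.smul_mem_smul ha trivial)⟩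

/-- A linear map with torsion cokernel has a quasi-inverse. -/
theorem exists_quasi_inverse {M N : Type u} [AddCommGroup M] [Module O M] [AddCommGroup N] [Module O N]
    (g : M →ₗ[O] N) (hg : Function.Injective g) {a : O} (ha : ∀ x : N, a • x ∈ LinearMap.range g) :
    ∃ h : N →ₗ[O] M, g.comp h = a • LinearMap.id ∧ h.comp g = a • LinearMap.id := by
  let e := LinearEquiv.ofInjective g hg
  let h : N →ₗ[O] M := e.symm.toLinearMap.comp ((a • LinearMap.id : N →ₗ[O] N).codRestrict _ ha)
  have h1 : ∀ x, g (h x) = a • x := fun x => congrArg Subtype.val (e.apply_symm_apply _)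
  exact ⟨h, LinearMap.ext h1, LinearMap.ext fun x => hg (by
    show g (h (g x)) = g (a • x)
    rw [h1, map_smul])⟩

/-- `S ⊗ Oⁿ` is torsion free for a torsion-free `S`. -/
theorem smul_ne_zero_tensor_free (S : Type u) [AddCommGroup S] [Module O S] [Module.IsTorsionFree O S] (n : ℕ)
    {a : O} (ha : a ≠ 0) (z : TensorProduct O S (Fin n → O)) (hz : a • z = 0) : z = 0 := by
  let e := TensorProduct.piScalarRight O O S (Fin n)
  refine e.injective ((smul_eq_zero.1 ?_).resolve_left ha |>.trans (map_zero e).symm)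
  rw [← map_smul, hz, map_zero]

omit [IsNoetherianRing O] [IsLocalRing O] in
/-- A finite torsion-free module over a domain embeds into a finite free one. -/
theorem exists_embedding_free (M : Type u) [AddCommGroup M] [Module O M] [Module.Finite O M]
    [Module.IsTorsionFree O M] : ∃ (n : ℕ) (g : M →ₗ[O] (Fin n → O)), Function.Injective g := by
  classical
  obtain ⟨m, s, hs⟩ := Module.Finite.exists_fin (R := O) (M := M)
  obtain ⟨I, hind, hI⟩ := exists_maximal_linearIndepOn O s
  let N := Submodule.span O (Set.range fun i : I => s i)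
  have hex : ∀ i, ∃ a : O, a ≠ 0 ∧ a • s i ∈ N := fun i => by
    by_cases hi : i ∈ I
    · exact ⟨1, one_ne_zero, by rw [one_smul]; exact Submodule.subset_span ⟨⟨i, hi⟩, rfl⟩⟩
    · simpa [N, Set.image_eq_range] using hI i hi
  choose a ha ha' using hex
  let A := ∏ i, a i
  have hA : A ≠ 0 := Finset.prod_ne_zero_iff.2 fun i _ => ha i
  let b : Module.Basis I O N := Module.Basis.span hind
  have hmem : ∀ x : M, A • x ∈ N := fun x => by
    have hx : x ∈ Submodule.span O (Set.range s) := hs.symm ▸ Submodule.mem_top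
    induction hx using Submodule.span_induction with
    | mem y hy =>
      obtain ⟨i, rfl⟩ := hy
      show (∏ j, a j) • s i ∈ N
      rw [Fintype.prod_eq_prod_compl_mul i, mul_smul]
      exact N.smul_mem _ (ha' i)
    | zero => rw [smul_zero]; exact N.zero_mem
    | add y z _ _ hy hz => rw [smul_add]; exact N.add_mem hy hz
    | smul c y _ hy => rw [smul_comm]; exact N.smul_mem c hy
  haveI : Fintype I := Fintype.ofFinite I
  let φ : M →ₗ[O] N := ((A • LinearMap.id : M →ₗ[O] M)).codRestrict N hmem
  refine ⟨Fintype.card I, (b.reindex (Fintype.equivFin I)).equivFun.toLinearMap.comp φ, ?_⟩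
  intro x y h
  have h' := ((b.reindex (Fintype.equivFin I)).equivFun).injective h
  exact smul_right_injective M hA (congrArg Subtype.val h')

end Domain

end Groth.Agent.TorOne17
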